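import Groth.Agent.NmpLocalize.Chart
import Groth.Agent.NmpDescent.Spread
import Groth.Agent.NmpTorsor.Basic
import Mathlib

/-! # The extension property passes to local schemes -/

universe u

open CategoryTheory Limits AlgebraicGeometry TopologicalSpace

set_option backward.isDefEq.respectTransparency false
set_option backward.isDefEq.respectTransparency.types false

noncomputable section

namespace Groth.Agent.NmpLocalize

variable {S N : Scheme.{u}}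

/-- The extension property in terms of open subschemes. -/
structure HasExt (U : S.Opens) (qN : N ⟶ S) : Prop where
  inj : ∀ {Y : Scheme.{u}} (q : Y ⟶ S) [Smooth q] (a b : Y ⟶ N), a ≫ qN = q → b ≫ qN = q →
    (q ⁻¹ᵁ U).ι ≫ a = (q ⁻¹ᵁ U).ι ≫ b → a = b
  surj : ∀ {Y : Scheme.{u}} (q : Y ⟶ S) [Smooth q] (h : (q ⁻¹ᵁ U).toScheme ⟶ N),
    h ≫ qN = (q ⁻¹ᵁ U).ι ≫ q → ∃ d : Y ⟶ N, d ≫ qN = q ∧ (q ⁻¹ᵁ U).ι ≫ d = h

theorem exists_open_iso_resObj (U : S.Opens) (Y : Over S) :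
    ∃ (c : (Y.hom ⁻¹ᵁ U).toScheme ⟶ (NmpTorsor.resObj U Y).left)
      (c' : (NmpTorsor.resObj U Y).left ⟶ (Y.hom ⁻¹ᵁ U).toScheme),
      c ≫ (NmpTorsor.j U Y).left = (Y.hom ⁻¹ᵁ U).ι ∧
      c' ≫ (Y.hom ⁻¹ᵁ U).ι = (NmpTorsor.j U Y).left ∧ c' ≫ c = 𝟙 _ ∧ c ≫ c' = 𝟙 _ := by
  let c : (Y.hom ⁻¹ᵁ U).toScheme ⟶ (NmpTorsor.resObj U Y).left :=
    pullback.lift (Y.hom ⁻¹ᵁ U).ι (Y.hom ∣_ U) (morphismRestrict_ι _ _).symm
  have hc : c ≫ (NmpTorsor.j U Y).left = (Y.hom ⁻¹ᵁ U).ι := pullback.lift_fst _ _ _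
  have hrg : Set.range (NmpTorsor.j U Y).left ⊆ Set.range (Y.hom ⁻¹ᵁ U).ι := by
    rw [Scheme.Opens.range_ι]
    rintro _ ⟨t, rfl⟩
    exact NmpTorsor.range_subset U Y t
  let c' := IsOpenImmersion.lift (Y.hom ⁻¹ᵁ U).ι (NmpTorsor.j U Y).left hrg
  have hc' : c' ≫ (Y.hom ⁻¹ᵁ U).ι = (NmpTorsor.j U Y).left := IsOpenImmersion.lift_fac _ _ _
  haveI : Mono (NmpTorsor.j U Y).left := inferInstanceAs (Mono (pullback.fst Y.hom U.ι))
  refine ⟨c, c', hc, hc', ?_, ?_⟩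
  · rw [← cancel_mono (NmpTorsor.j U Y).left, Category.assoc, hc, hc', Category.id_comp]
  · rw [← cancel_mono (Y.hom ⁻¹ᵁ U).ι, Category.assoc, hc', hc, Category.id_comp]

theorem ext_iff_hasExt (U : S.Opens) (N : Over S) : NmpTorsor.Ext U N ↔ HasExt U N.hom := by
  constructor
  · intro hN
    refine ⟨fun {Y} q _ a b ha hb hab => ?_, fun {Y} q _ h hh => ?_⟩
    · obtain ⟨c, c', hc, hc', hcc, -⟩ := exists_open_iso_resObj U (Over.mk q)
      have := (hN (Over.mk q) ‹_›).1 (a₁ := Over.homMk a ha) (a₂ := Over.homMk b hb) (by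
        apply Over.OverMorphism.ext
        show (NmpTorsor.j U (Over.mk q)).left ≫ a = (NmpTorsor.j U (Over.mk q)).left ≫ b
        rw [← hc', Category.assoc, Category.assoc]
        exact congrArg (c' ≫ ·) hab)
      exact congrArg Over.Hom.left this
    · obtain ⟨c, c', hc, hc', -, hcc⟩ := exists_open_iso_resObj U (Over.mk q)
      obtain ⟨d, hd⟩ := (hN (Over.mk q) ‹_›).2 (Over.homMk (c' ≫ h) (by
        show (c' ≫ h) ≫ N.hom = (NmpTorsor.resObj U (Over.mk q)).hom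
        rw [Category.assoc, hh, ← Category.assoc]
        exact (congrArg (· ≫ q) hc').trans rfl))
      refine ⟨d.left, Over.w d, ?_⟩
      have hd' : (NmpTorsor.j U (Over.mk q)).left ≫ d.left = c' ≫ h := congrArg Over.Hom.left hd
      have : c ≫ (NmpTorsor.j U (Over.mk q)).left ≫ d.left = h := by
        rw [hd', ← Category.assoc, hcc, Category.id_comp]
      rw [← Category.assoc, hc] at this
      exact this
  · intro hN Z hZ
    haveI := hZ
    obtain ⟨c, c', hc, hc', hcc, hcc'⟩ := exists_open_iso_resObj U Z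
    refine ⟨fun a b hab => ?_, fun k => ?_⟩
    · ext1
      refine hN.inj Z.hom _ _ (Over.w a) (Over.w b) ?_
      rw [← hc, Category.assoc, Category.assoc]
      exact congrArg (fun k => c ≫ Over.Hom.left k) hab
    · obtain ⟨d, hd, hdk⟩ := hN.surj Z.hom (c ≫ k.left) (by
        rw [Category.assoc, Over.w k, ← hc, Category.assoc]
        rfl)
      refine ⟨Over.homMk d hd, ?_⟩
      ext1
      show (NmpTorsor.j U Z).left ≫ d = k.left
      rw [← hc', Category.assoc, hdk, ← Category.assoc, hcc, Category.id_comp]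

variable [IsLocallyNoetherian S] (s : S) (U : S.Opens) (qN : N ⟶ S) [IsSeparated qN]
  [LocallyOfFinitePresentation qN]

omit [IsLocallyNoetherian S] in
/-- Points of the local scheme at `y` map into an open as soon as a generalization does. -/
theorem mem_of_range_stalk {Y₁ : Scheme.{u}} (O : Y₁.Opens) (z : Y₁) (hz : z ∈ O)
    (t : Spec (Y₁.presheaf.stalk z)) : Y₁.fromSpecStalk z t ∈ O := by
  rw [← Scheme.Opens.fromSpecStalkOfMem_ι O z hz, Scheme.Hom.comp_apply]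
  exact (O.fromSpecStalkOfMem z hz t).2

/-- Uniqueness over the local scheme. -/
theorem inj_local (hN : HasExt U qN) {Y : Scheme.{u}} (p' : Y ⟶ Spec (S.presheaf.stalk s))
    [Smooth p'] (a b : Y ⟶ N) (ha : a ≫ qN = p' ≫ S.fromSpecStalk s)
    (hb : b ≫ qN = p' ≫ S.fromSpecStalk s)
    (hab : ((p' ≫ S.fromSpecStalk s) ⁻¹ᵁ U).ι ≫ a = ((p' ≫ S.fromSpecStalk s) ⁻¹ᵁ U).ι ≫ b) :
    a = b := by
  refine NmpDescent.hom_ext_local a b fun y => ?_
  obtain ⟨W, hyW, Y₁, q, π, _, _, hπq, hiso⟩ := exists_chart s p' y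
  haveI : IsLocallyNoetherian Y₁ := LocallyOfFiniteType.isLocallyNoetherian q
  let wy : W.toScheme := ⟨y, hyW⟩
  let y₁ := π wy
  haveI := hiso wy
  let e : Spec (Y₁.presheaf.stalk y₁) ⟶ Y :=
    inv (Spec.map (π.stalkMap wy)) ≫ W.toScheme.fromSpecStalk wy ≫ W.ι
  have hepi : inv (Spec.map (π.stalkMap wy)) ≫ W.toScheme.fromSpecStalk wy ≫ π =
      Y₁.fromSpecStalk y₁ := by
    rw [IsIso.inv_comp_eq, Scheme.SpecMap_stalkMap_fromSpecStalk]
  have he : e ≫ p' ≫ S.fromSpecStalk s = Y₁.fromSpecStalk y₁ ≫ q := by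
    simp only [e, Category.assoc, ← hπq, reassoc_of% hepi]
  obtain ⟨V, hyV, sa, hsa, hsaq⟩ := MorLib.SFP.spread_out q qN (e ≫ a) (by
    rw [Category.assoc, ha, he])
  let O : Y₁.Opens := V ⊓ q ⁻¹ᵁ U
  let h : O.toScheme ⟶ N := Y₁.homOfLE (inf_le_left : O ≤ V) ≫ sa
  obtain ⟨V', hyV', sb, hsbq, hsb, hagree⟩ := NmpDescent.exists_extension_near q qN O h
    (by simp [h, hsaq]) y₁ (e ≫ b) (by rw [Category.assoc, hb, he]) (fun z hzy hz => by
      have h1 : O.fromSpecStalkOfMem z hz ≫ Y₁.homOfLE (inf_le_left : O ≤ V) =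
          Spec.map (Y₁.presheaf.stalkSpecializes hzy) ≫ V.fromSpecStalkOfMem y₁ hyV := by
        rw [← cancel_mono V.ι]
        simp [Scheme.SpecMap_stalkSpecializes_fromSpecStalk]
      simp only [h, reassoc_of% h1, ← hsa]
      have hr : Set.range (Spec.map (Y₁.presheaf.stalkSpecializes hzy) ≫ e) ⊆
          Set.range ((p' ≫ S.fromSpecStalk s) ⁻¹ᵁ U).ι := by
        rw [Scheme.Opens.range_ι]
        rintro _ ⟨t, rfl⟩
        show ((Spec.map (Y₁.presheaf.stalkSpecializes hzy) ≫ e) ≫ p' ≫ S.fromSpecStalk s) t ∈ U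
        rw [Category.assoc, he, Scheme.SpecMap_stalkSpecializes_fromSpecStalk_assoc,
          Scheme.Hom.comp_apply]
        exact mem_of_range_stalk _ z hz.2 t
      let l := IsOpenImmersion.lift _ _ hr
      have hl : l ≫ ((p' ≫ S.fromSpecStalk s) ⁻¹ᵁ U).ι =
          Spec.map (Y₁.presheaf.stalkSpecializes hzy) ≫ e := IsOpenImmersion.lift_fac _ _ _
      have h2 : (Spec.map (Y₁.presheaf.stalkSpecializes hzy) ≫ e) ≫ b =
          (Spec.map (Y₁.presheaf.stalkSpecializes hzy) ≫ e) ≫ a := by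
        rw [← hl, Category.assoc, Category.assoc, hab]
      exact (Category.assoc _ _ _).symm.trans (h2.trans (Category.assoc _ _ _)))
  let V'' := V ⊓ V'
  have hy'' : y₁ ∈ V'' := ⟨hyV, hyV'⟩
  have key : Y₁.homOfLE (inf_le_left : V'' ≤ V) ≫ sa = Y₁.homOfLE (inf_le_right : V'' ≤ V') ≫ sb := by
    refine hN.inj (V''.ι ≫ q) _ _ (by simp [hsaq, V'']) (by simp [hsbq, V'']) ?_
    let O' := (V''.ι ≫ q) ⁻¹ᵁ U
    have hr : Set.range (O'.ι ≫ V''.ι) ⊆ Set.range O.ι := by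
      rw [Scheme.Opens.range_ι]
      rintro _ ⟨t, rfl⟩
      exact ⟨(O'.ι t).2.1, t.2⟩
    let β := IsOpenImmersion.lift O.ι _ hr
    have hβ : β ≫ O.ι = O'.ι ≫ V''.ι := IsOpenImmersion.lift_fac _ _ _
    have h2 := hagree (O'.ι ≫ Y₁.homOfLE (inf_le_right : V'' ≤ V')) β (by simp [hβ])
    rw [Category.assoc] at h2
    rw [h2]
    simp only [h, ← Category.assoc]
    congr 1
    rw [← cancel_mono V.ι]
    simp [hβ, V'', O']
  have hσ : e ≫ a = e ≫ b := by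
    rw [hsa, hsb]
    have h1 : V''.fromSpecStalkOfMem y₁ hy'' ≫ Y₁.homOfLE (inf_le_left : V'' ≤ V) =
        V.fromSpecStalkOfMem y₁ hyV := by rw [← cancel_mono V.ι]; simp
    have h2 : V''.fromSpecStalkOfMem y₁ hy'' ≫ Y₁.homOfLE (inf_le_right : V'' ≤ V') =
        V'.fromSpecStalkOfMem y₁ hyV' := by rw [← cancel_mono V'.ι]; simp
    rw [← h1, ← h2, Category.assoc, Category.assoc, key]
  obtain ⟨W', hW', hW''⟩ := SpreadUniq.spread_out_unique qN (W.ι ≫ a) (W.ι ≫ b)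
    (by rw [Category.assoc, Category.assoc, ha, hb]) (x := wy) (by
      simp only [e, Category.assoc] at hσ
      exact (cancel_epi _).1 hσ)
  refine ⟨(W'.ι ≫ W.ι).opensRange, ⟨⟨wy, hW'⟩, rfl⟩, ?_⟩
  rw [← Scheme.Hom.isoOpensRange_inv_comp (W'.ι ≫ W.ι)]
  simp only [Category.assoc, hW'']

variable {s U qN}

/-- Existence near a point, over the local scheme. -/
theorem exists_local (hN : HasExt U qN) {Y : Scheme.{u}} (p' : Y ⟶ Spec (S.presheaf.stalk s))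
    [Smooth p'] [IsLocallyNoetherian Y] (h : ((p' ≫ S.fromSpecStalk s) ⁻¹ᵁ U).toScheme ⟶ N)
    (hh : h ≫ qN = ((p' ≫ S.fromSpecStalk s) ⁻¹ᵁ U).ι ≫ p' ≫ S.fromSpecStalk s) (y : Y) :
    ∃ (V : Y.Opens) (_ : y ∈ V) (d : V.toScheme ⟶ N), d ≫ qN = V.ι ≫ p' ≫ S.fromSpecStalk s ∧
      ∀ {T : Scheme.{u}} (a : T ⟶ V.toScheme)
        (b : T ⟶ ((p' ≫ S.fromSpecStalk s) ⁻¹ᵁ U).toScheme),
        a ≫ V.ι = b ≫ ((p' ≫ S.fromSpecStalk s) ⁻¹ᵁ U).ι → a ≫ d = b ≫ h := by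
  obtain ⟨W, hyW, Y₁, q, π, _, _, hπq, hiso⟩ := exists_chart s p' y
  haveI : IsLocallyNoetherian Y₁ := LocallyOfFiniteType.isLocallyNoetherian q
  haveI := IsLocallyNoetherian.component_noetherian ⟨⊤, isAffineOpen_top Y₁⟩
  haveI : NoetherianSpace Y₁ := noetherianSpace_of_isAffine
  let p := p' ≫ S.fromSpecStalk s
  let O := p ⁻¹ᵁ U
  let O₁ := q ⁻¹ᵁ U
  let wy : W.toScheme := ⟨y, hyW⟩
  let y₁ := π wy
  haveI := hiso wy
  let e : Spec (Y₁.presheaf.stalk y₁) ⟶ Y :=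
    inv (Spec.map (π.stalkMap wy)) ≫ W.toScheme.fromSpecStalk wy ≫ W.ι
  have hepi : inv (Spec.map (π.stalkMap wy)) ≫ W.toScheme.fromSpecStalk wy ≫ π =
      Y₁.fromSpecStalk y₁ := by
    rw [IsIso.inv_comp_eq, Scheme.SpecMap_stalkMap_fromSpecStalk]
  let j₁ := Y₁.fromSpecStalk y₁
  have he : e ≫ p = j₁ ≫ q := by
    simp only [e, p, j₁, Category.assoc, ← hπq, reassoc_of% hepi]
  let P := j₁ ⁻¹ᵁ O₁
  have hPr : Set.range (P.ι ≫ e) ⊆ Set.range O.ι := by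
    rw [Scheme.Opens.range_ι]
    rintro _ ⟨t, rfl⟩
    show ((P.ι ≫ e) ≫ p) t ∈ U
    rw [Category.assoc, he, Scheme.Hom.comp_apply, Scheme.Hom.comp_apply]
    exact t.2
  let κ₀ := IsOpenImmersion.lift O.ι _ hPr
  have hκ₀ : κ₀ ≫ O.ι = P.ι ≫ e := IsOpenImmersion.lift_fac _ _ _
  let κ : P.toScheme ⟶ N := κ₀ ≫ h
  have hκ : κ ≫ qN = P.ι ≫ j₁ ≫ q := by
    simp only [κ, Category.assoc, hh]
    show κ₀ ≫ O.ι ≫ p = _
    rw [reassoc_of% hκ₀, he]
  -- spreading out around each generalization in `O₁`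
  have hG : ∀ z : {z : Y₁ // z ⤳ y₁ ∧ z ∈ O₁}, ∃ (V : Y₁.Opens) (_ : z.1 ∈ V) (_ : V ≤ O₁)
      (g : V.toScheme ⟶ N), g ≫ qN = V.ι ≫ q ∧
      ∀ {T : Scheme.{u}} (α : T ⟶ P.toScheme) (β : T ⟶ V.toScheme),
        α ≫ P.ι ≫ j₁ = β ≫ V.ι → β ≫ g = α ≫ κ := by
    rintro ⟨z, hzy, hz⟩
    obtain ⟨ζ₀, hζ₀⟩ : z ∈ Set.range j₁ := by
      rw [Scheme.range_fromSpecStalk]; exact hzy
    let ζ : P.toScheme := ⟨ζ₀, show j₁ ζ₀ ∈ O₁ by rw [hζ₀]; exact hz⟩
    haveI := GrpSchLib.flat_fromSpecStalk y₁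
    haveI : IsIso ((P.ι ≫ j₁).stalkMap ζ) := by
      haveI : Flat (P.ι ≫ j₁) := inferInstance
      exact isIso_stalkMap_of_flat_preimmersion _ _
    obtain ⟨V, hzV, g, hg, hgq⟩ := MorLib.SFP.spread_out q qN (x := (P.ι ≫ j₁) ζ)
      (inv (Spec.map ((P.ι ≫ j₁).stalkMap ζ)) ≫ P.toScheme.fromSpecStalk ζ ≫ κ) (by
        rw [Category.assoc, Category.assoc, hκ, ← Category.assoc P.ι, ← Category.assoc _ (P.ι ≫ j₁),
          ← Scheme.SpecMap_stalkMap_fromSpecStalk, Category.assoc, IsIso.inv_hom_id_assoc])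
    let Q := (P.ι ≫ j₁) ⁻¹ᵁ V
    obtain ⟨Q', hQ', hQQ⟩ := SpreadUniq.spread_out_unique qN
      (((P.ι ≫ j₁) ∣_ V) ≫ g) (Q.ι ≫ κ) (by
        simp only [Category.assoc, hgq, morphismRestrict_ι_assoc, hκ, Q])
      (x := (⟨ζ, hzV⟩ : Q.toScheme)) (by
        have e1 : Q.toScheme.fromSpecStalk ⟨ζ, hzV⟩ ≫ ((P.ι ≫ j₁) ∣_ V) =
            Spec.map (Q.ι.stalkMap ⟨ζ, hzV⟩) ≫ Spec.map ((P.ι ≫ j₁).stalkMap ζ) ≫
              V.fromSpecStalkOfMem _ hzV := by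
          rw [← cancel_mono V.ι]
          simp only [Category.assoc, morphismRestrict_ι, Scheme.Opens.fromSpecStalkOfMem_ι,
            Scheme.SpecMap_stalkMap_fromSpecStalk, Q]
          rw [← Category.assoc, ← Scheme.SpecMap_stalkMap_fromSpecStalk, Category.assoc]
          rfl
        rw [reassoc_of% e1, ← hg, IsIso.hom_inv_id_assoc]
        exact Scheme.SpecMap_stalkMap_fromSpecStalk_assoc Q.ι κ)
    obtain ⟨V', hV'o, hV'e⟩ := ((P.ι ≫ j₁).isEmbedding.comp Q.ι.isEmbedding).isInducing.isOpen_iff.1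
      Q'.isOpen
    let V'' : Y₁.Opens := V ⊓ ⟨V', hV'o⟩ ⊓ O₁
    refine ⟨V'', ⟨⟨?_, ?_⟩, hz⟩, inf_le_right, Y₁.homOfLE (inf_le_left.trans inf_le_left : V'' ≤ V) ≫ g,
      by simp [hgq], ?_⟩
    · exact hζ₀ ▸ hzV
    · show z ∈ V'
      rw [← hζ₀]
      have : (⟨ζ, hzV⟩ : Q.toScheme) ∈ (Q' : Set Q.toScheme) := hQ'
      rw [← hV'e] at this
      exact this
    intro T α β hαβ
    have hrg : Set.range α ⊆ Set.range Q.ι := by
      rw [Scheme.Opens.range_ι]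
      rintro _ ⟨t, rfl⟩
      show (α ≫ P.ι ≫ j₁) t ∈ V
      rw [hαβ]
      exact (β t).2.1.1
    let l := IsOpenImmersion.lift Q.ι α hrg
    have hl : l ≫ Q.ι = α := IsOpenImmersion.lift_fac _ _ _
    have hrg' : Set.range l ⊆ Set.range Q'.ι := by
      rw [Scheme.Opens.range_ι]
      rintro _ ⟨t, rfl⟩
      rw [← hV'e]
      show (l ≫ Q.ι ≫ P.ι ≫ j₁) t ∈ V'
      rw [reassoc_of% hl, hαβ]
      exact (β t).2.1.2
    have hl' := IsOpenImmersion.lift_fac Q'.ι l hrg'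
    have h1 : β ≫ Y₁.homOfLE (inf_le_left.trans inf_le_left : V'' ≤ V) = l ≫ ((P.ι ≫ j₁) ∣_ V) := by
      rw [← cancel_mono V.ι]
      simp only [Category.assoc, Scheme.homOfLE_ι, morphismRestrict_ι, Q]
      rw [reassoc_of% hl, hαβ]
    rw [reassoc_of% h1, ← hl, Category.assoc, ← hl', Category.assoc, Category.assoc, hQQ]
  choose V hzV hVO g hgq hgκ using hG
  obtain ⟨t, ht⟩ := (NoetherianSpace.isCompact (⋃ z, (V z : Set Y₁))).elim_finite_subcover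
    (fun z => (V z : Set Y₁)) (fun z => (V z).isOpen) (Set.Subset.refl _)
  let Agree : ∀ a b : {z : Y₁ // z ⤳ y₁ ∧ z ∈ O₁}, Y₁.Opens := fun a b =>
    ⨆ (A : {A : Y₁.Opens // ∃ (ha : A ≤ V a) (hb : A ≤ V b),
      Y₁.homOfLE ha ≫ g a = Y₁.homOfLE hb ≫ g b}), A.1
  let C₀ : Set Y₁ := (O₁ : Set Y₁) ∩ (⋃ z ∈ t, (V z : Set Y₁))ᶜ
  let C : Set Y₁ := closure C₀ ∪ ⋃ a ∈ t, ⋃ b ∈ t,
    closure (((V a ⊓ V b : Y₁.Opens) : Set Y₁) ∩ (Agree a b : Set Y₁)ᶜ)
  have hC : IsClosed C := isClosed_closure.union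
    (t.finite_toSet.isClosed_biUnion fun a _ => t.finite_toSet.isClosed_biUnion fun b _ => isClosed_closure)
  have hyC : y₁ ∉ C := by
    rintro (h0 | h0)
    · obtain ⟨c, ⟨hc, hcn⟩, hcy⟩ := NmpDescent.exists_specializes_mem O₁.isOpen
        (isOpen_biUnion fun z _ => (V z).isOpen).isClosed_compl h0
      exact hcn (ht (Set.mem_iUnion.2 ⟨⟨c, hcy, hc⟩, hzV ⟨c, hcy, hc⟩⟩))
    · simp only [Set.mem_iUnion] at h0
      obtain ⟨a, -, b, -, h0⟩ := h0
      obtain ⟨c, ⟨hc, hcn⟩, hcy⟩ := NmpDescent.exists_specializes_mem (V a ⊓ V b).isOpen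
        (Agree a b).isOpen.isClosed_compl h0
      refine hcn ?_
      let A₀ := V a ⊓ V b
      have hrP : Set.range (Spec.map (Y₁.presheaf.stalkSpecializes hcy)) ⊆ Set.range P.ι := by
        rw [Scheme.Opens.range_ι]
        rintro _ ⟨x, rfl⟩
        show (Spec.map (Y₁.presheaf.stalkSpecializes hcy) ≫ j₁) x ∈ O₁
        rw [Scheme.SpecMap_stalkSpecializes_fromSpecStalk]
        exact mem_of_range_stalk O₁ c (hVO a hc.1) x
      let α := IsOpenImmersion.lift P.ι _ hrP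
      have hα : α ≫ P.ι = Spec.map (Y₁.presheaf.stalkSpecializes hcy) := IsOpenImmersion.lift_fac _ _ _
      let t₀ : A₀.toScheme := ⟨c, hc⟩
      have e0 : A₀.fromSpecStalkOfMem c hc ≫ Y₁.homOfLE inf_le_left ≫ g a =
          A₀.fromSpecStalkOfMem c hc ≫ Y₁.homOfLE inf_le_right ≫ g b := by
        rw [← Category.assoc, ← Category.assoc,
          hgκ a α (A₀.fromSpecStalkOfMem c hc ≫ Y₁.homOfLE inf_le_left)
            (by rw [reassoc_of% hα]; simp [j₁]),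
          hgκ b α (A₀.fromSpecStalkOfMem c hc ≫ Y₁.homOfLE inf_le_right)
            (by rw [reassoc_of% hα]; simp [j₁])]
      have e1 : A₀.toScheme.fromSpecStalk t₀ =
          Spec.map (A₀.ι.stalkMap t₀) ≫ A₀.fromSpecStalkOfMem c hc := by
        rw [← cancel_mono A₀.ι, Category.assoc, Scheme.Opens.fromSpecStalkOfMem_ι,
          ← Scheme.SpecMap_stalkMap_fromSpecStalk]
        rfl
      obtain ⟨A, htA, hA⟩ := SpreadUniq.spread_out_unique qN
        (Y₁.homOfLE (inf_le_left : A₀ ≤ V a) ≫ g a) (Y₁.homOfLE (inf_le_right : A₀ ≤ V b) ≫ g b)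
        (by simp [hgq]) (x := t₀) (by rw [e1, Category.assoc, Category.assoc, e0])
      have hAle : A₀.ι ''ᵁ A ≤ A₀ := by rintro _ ⟨x, -, rfl⟩; exact x.2
      refine Opens.mem_iSup.2 ⟨⟨A₀.ι ''ᵁ A, hAle.trans inf_le_left, hAle.trans inf_le_right, ?_⟩,
        ⟨t₀, htA, rfl⟩⟩
      rw [← Scheme.homOfLE_homOfLE Y₁ hAle (inf_le_left : A₀ ≤ V a),
        ← Scheme.homOfLE_homOfLE Y₁ hAle (inf_le_right : A₀ ≤ V b)]
      have hfac : Y₁.homOfLE hAle = (A₀.ι.isoImage A).inv ≫ A.ι := by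
        rw [← cancel_mono A₀.ι, Scheme.homOfLE_ι, Category.assoc]
        exact (Scheme.Hom.isoImage_inv_ι A₀.ι A).symm
      simp only [hfac, Category.assoc, hA]
  -- gluing near `y₁`
  let V₀ : Y₁.Opens := ⟨Cᶜ, hC.isOpen_compl⟩
  let q₀ := V₀.ι ≫ q
  let O₀ := q₀ ⁻¹ᵁ U
  let c₀ := O₀.ι ≫ V₀.ι
  have hmem : ∀ x : O₀.toScheme, ∃ z : {z // z ∈ t}, c₀ x ∈ V z.1 := fun x => by
    by_contra hx
    simp only [not_exists, Subtype.forall] at hx
    refine (O₀.ι x).2 (Or.inl (subset_closure ⟨x.2, ?_⟩))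
    simp only [Set.mem_compl_iff, Set.mem_iUnion, not_exists]
    exact fun z hz => hx z.1 z.2 hz
  let R : {z // z ∈ t} → O₀.toScheme.Opens := fun z => c₀ ⁻¹ᵁ V z.1
  let 𝒰 := O₀.toScheme.openCoverOfIsOpenCover R (TopologicalSpace.IsOpenCover.mk
    (eq_top_iff.2 fun x _ => Opens.mem_iSup.2 (hmem x)))
  let gR : ∀ z, (R z).toScheme ⟶ N := fun z => (c₀ ∣_ V z.1) ≫ g z.1
  have compat : ∀ a b, pullback.fst (R a).ι (R b).ι ≫ gR a = pullback.snd (R a).ι (R b).ι ≫ gR b := by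
    intro a b
    let r := pullback.fst (R a).ι (R b).ι ≫ (R a).ι
    refine NmpDescent.hom_ext_local _ _ fun x => ?_
    have hxa : c₀ (r x) ∈ V a.1 := (pullback.fst (R a).ι (R b).ι x).2
    have hxb : c₀ (r x) ∈ V b.1 := by
      have : r = pullback.snd (R a).ι (R b).ι ≫ (R b).ι := pullback.condition
      rw [this]
      exact (pullback.snd (R a).ι (R b).ι x).2
    have hxA : c₀ (r x) ∈ Agree a.1 b.1 := by
      by_contra hn
      refine (O₀.ι (r x)).2 (Or.inr ?_)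
      simp only [Set.mem_iUnion]
      exact ⟨a.1, a.2, b.1, b.2, subset_closure ⟨⟨hxa, hxb⟩, hn⟩⟩
    obtain ⟨⟨A, ha, hb, hAg⟩, hxA⟩ := Opens.mem_iSup.1 hxA
    refine ⟨(r ≫ c₀) ⁻¹ᵁ A, hxA, ?_⟩
    let L := (r ≫ c₀) ⁻¹ᵁ A
    let lA : L.toScheme ⟶ A.toScheme := (r ≫ c₀) ∣_ A
    have e1 : L.ι ≫ pullback.fst (R a).ι (R b).ι ≫ (c₀ ∣_ V a.1) = lA ≫ Y₁.homOfLE ha := by
      rw [← cancel_mono (V a.1).ι]
      simp only [Category.assoc, morphismRestrict_ι, Scheme.homOfLE_ι, lA, r, R, L]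
    have e2 : L.ι ≫ pullback.snd (R a).ι (R b).ι ≫ (c₀ ∣_ V b.1) = lA ≫ Y₁.homOfLE hb := by
      rw [← cancel_mono (V b.1).ι]
      simp only [Category.assoc, morphismRestrict_ι, Scheme.homOfLE_ι, lA, r, R, L]
      rw [pullback.condition_assoc]
    simp only [gR]
    rw [reassoc_of% e1, reassoc_of% e2, hAg]
  let h₁ : O₀.toScheme ⟶ N := 𝒰.glueMorphisms gR compat
  have hh₁ : ∀ z, (R z).ι ≫ h₁ = gR z := fun z => 𝒰.ι_glueMorphisms gR compat z
  obtain ⟨d, hdq, hdh⟩ := hN.surj q₀ h₁ (𝒰.hom_ext _ _ fun z => by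
    show (R z).ι ≫ h₁ ≫ qN = (R z).ι ≫ O₀.ι ≫ q₀
    rw [reassoc_of% (hh₁ z)]
    simp only [gR, Category.assoc, hgq, morphismRestrict_ι_assoc, R, c₀, q₀])
  -- back to `Y`
  let k := (π ⁻¹ᵁ V₀).ι ≫ W.ι
  have hy₀ : wy ∈ π ⁻¹ᵁ V₀ := hyC
  let E : Spec (Y.presheaf.stalk y) ⟶ Spec (Y₁.presheaf.stalk y₁) :=
    inv (Spec.map (W.ι.stalkMap wy)) ≫ Spec.map (π.stalkMap wy)
  have hEe : E ≫ e = Y.fromSpecStalk y := by
    simp only [E, e, Category.assoc, IsIso.hom_inv_id_assoc, IsIso.inv_comp_eq]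
    exact (Scheme.SpecMap_stalkMap_fromSpecStalk W.ι).symm
  obtain ⟨Vy, hyVy, dy, hdyq, -, hdyh⟩ := NmpDescent.exists_extension_near p qN O h hh y
    (E ≫ V₀.fromSpecStalkOfMem y₁ hy₀ ≫ d) (by
      simp only [Category.assoc, hdq, q₀, Scheme.Opens.fromSpecStalkOfMem_ι_assoc]
      show E ≫ j₁ ≫ q = _
      rw [← he, reassoc_of% hEe])
    (fun z hzy hz => by
      let α₀ := Spec.map (Y.presheaf.stalkSpecializes hzy) ≫ E
      have hα₀ : α₀ ≫ e = Y.fromSpecStalk z := by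
        simp only [α₀, Category.assoc, hEe, Scheme.SpecMap_stalkSpecializes_fromSpecStalk]
      have hin : ∀ x, (α₀ ≫ j₁ ≫ q) x ∈ U := fun x => by
        rw [← he, reassoc_of% hα₀, Scheme.Hom.comp_apply]
        exact mem_of_range_stalk O z hz x
      have hrP : Set.range α₀ ⊆ Set.range P.ι := by
        rw [Scheme.Opens.range_ι]
        rintro _ ⟨x, rfl⟩
        exact hin x
      let α := IsOpenImmersion.lift P.ι α₀ hrP
      have hα : α ≫ P.ι = α₀ := IsOpenImmersion.lift_fac _ _ _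
      let β₀ := α₀ ≫ V₀.fromSpecStalkOfMem y₁ hy₀
      have hβ₀ : β₀ ≫ V₀.ι = α₀ ≫ j₁ := by simp [β₀, j₁]
      have hrO : Set.range β₀ ⊆ Set.range O₀.ι := by
        rw [Scheme.Opens.range_ι]
        rintro _ ⟨x, rfl⟩
        show (β₀ ≫ V₀.ι ≫ q) x ∈ U
        rw [reassoc_of% hβ₀]
        exact hin x
      let β := IsOpenImmersion.lift O₀.ι β₀ hrO
      have hβ : β ≫ O₀.ι = β₀ := IsOpenImmersion.lift_fac _ _ _
      obtain ⟨a, ha⟩ := hmem (β (IsLocalRing.closedPoint _))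
      have hrR : Set.range β ⊆ Set.range (R a).ι := by
        rw [Scheme.Opens.range_ι]
        rintro _ ⟨x, rfl⟩
        exact ((IsLocalRing.specializes_closedPoint x).map β.continuous).mem_open (R a).isOpen ha
      let β' := IsOpenImmersion.lift (R a).ι β hrR
      have hβ' : β' ≫ (R a).ι = β := IsOpenImmersion.lift_fac _ _ _
      show Spec.map _ ≫ E ≫ V₀.fromSpecStalkOfMem y₁ hy₀ ≫ d = _
      calc Spec.map (Y.presheaf.stalkSpecializes hzy) ≫ E ≫ V₀.fromSpecStalkOfMem y₁ hy₀ ≫ d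
          = β' ≫ gR a := by
            rw [← hh₁, reassoc_of% hβ', ← hdh, reassoc_of% hβ]
            simp [β₀, α₀]
        _ = α ≫ κ := by
            refine hgκ a.1 α (β' ≫ (c₀ ∣_ V a.1)) ?_ |> fun w => (Category.assoc _ _ _).symm.trans w
            rw [reassoc_of% hα, Category.assoc β' (c₀ ∣_ V a.1), morphismRestrict_ι]
            show _ = β' ≫ (R a).ι ≫ O₀.ι ≫ V₀.ι
            rw [reassoc_of% hβ', reassoc_of% hβ, hβ₀]
        _ = O.fromSpecStalkOfMem z hz ≫ h := by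
            simp only [κ, ← Category.assoc]
            congr 1
            rw [← cancel_mono O.ι, Category.assoc, hκ₀, reassoc_of% hα, hα₀,
              Scheme.Opens.fromSpecStalkOfMem_ι])
  exact ⟨Vy, hyVy, dy, hdyq, hdyh⟩

theorem surj_local (hN : HasExt U qN) {Y : Scheme.{u}} (p' : Y ⟶ Spec (S.presheaf.stalk s))
    [Smooth p'] (h : ((p' ≫ S.fromSpecStalk s) ⁻¹ᵁ U).toScheme ⟶ N)
    (hh : h ≫ qN = ((p' ≫ S.fromSpecStalk s) ⁻¹ᵁ U).ι ≫ p' ≫ S.fromSpecStalk s) :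
    ∃ d : Y ⟶ N, d ≫ qN = p' ≫ S.fromSpecStalk s ∧
      ((p' ≫ S.fromSpecStalk s) ⁻¹ᵁ U).ι ≫ d = h := by
  haveI : IsLocallyNoetherian Y := LocallyOfFiniteType.isLocallyNoetherian p'
  choose V hyV d hdq hdh using exists_local hN p' h hh
  let 𝒰 := Y.openCoverOfIsOpenCover V (TopologicalSpace.IsOpenCover.mk
    (eq_top_iff.2 fun x _ => Opens.mem_iSup.2 ⟨x, hyV x⟩))
  let p := p' ≫ S.fromSpecStalk s
  have compat : ∀ i j, pullback.fst (V i).ι (V j).ι ≫ d i = pullback.snd (V i).ι (V j).ι ≫ d j := by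
    intro i j
    let r := pullback.fst (V i).ι (V j).ι ≫ (V i).ι
    have hr : r = pullback.snd (V i).ι (V j).ι ≫ (V j).ι := pullback.condition
    haveI : Smooth (r ≫ p') := inferInstance
    refine inj_local s U qN hN (r ≫ p') _ _ ?_ ?_ ?_
    · rw [Category.assoc, hdq]
      simp only [r, Category.assoc]
    · rw [Category.assoc, hdq, hr]
      simp only [Category.assoc]
    · let O₂ := ((r ≫ p') ≫ S.fromSpecStalk s) ⁻¹ᵁ U
      have hrg : Set.range (O₂.ι ≫ r) ⊆ Set.range (p ⁻¹ᵁ U).ι := by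
        rw [Scheme.Opens.range_ι]
        rintro _ ⟨x, rfl⟩
        exact x.2
      let b := IsOpenImmersion.lift (p ⁻¹ᵁ U).ι (O₂.ι ≫ r) hrg
      have hb : b ≫ (p ⁻¹ᵁ U).ι = O₂.ι ≫ r := IsOpenImmersion.lift_fac _ _ _
      rw [← Category.assoc, ← Category.assoc,
        hdh i (O₂.ι ≫ pullback.fst _ _) b (by rw [Category.assoc, hb]),
        hdh j (O₂.ι ≫ pullback.snd _ _) b (by rw [Category.assoc, hb, hr])]
  let D : Y ⟶ N := 𝒰.glueMorphisms d compat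
  have hD : ∀ i, (V i).ι ≫ D = d i := fun i => 𝒰.ι_glueMorphisms d compat i
  refine ⟨D, 𝒰.hom_ext _ _ fun i => ?_, ?_⟩
  · show (V i).ι ≫ D ≫ qN = (V i).ι ≫ p' ≫ S.fromSpecStalk s
    rw [reassoc_of% (hD i), hdq]
  · refine NmpDescent.hom_ext_local _ _ fun x => ⟨(p ⁻¹ᵁ U).ι ⁻¹ᵁ V ((p ⁻¹ᵁ U).ι x), hyV _, ?_⟩
    let W := (p ⁻¹ᵁ U).ι ⁻¹ᵁ V ((p ⁻¹ᵁ U).ι x)
    have e : W.ι ≫ (p ⁻¹ᵁ U).ι = ((p ⁻¹ᵁ U).ι ∣_ V ((p ⁻¹ᵁ U).ι x)) ≫ (V _).ι :=
      (morphismRestrict_ι _ _).symm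
    show W.ι ≫ (p ⁻¹ᵁ U).ι ≫ D = W.ι ≫ h
    rw [reassoc_of% e, hD]
    exact hdh _ _ _ e.symm

/-- The extension property passes to the local scheme. -/
theorem ext_localize {N : Over S} [IsSeparated N.hom] [LocallyOfFinitePresentation N.hom]
    (hN : NmpTorsor.Ext U N) (s : S) :
    NmpTorsor.Ext ((S.fromSpecStalk s) ⁻¹ᵁ U) ((Over.pullback (S.fromSpecStalk s)).obj N) := by
  have hN' := (ext_iff_hasExt U N).1 hN
  rw [ext_iff_hasExt]
  let j := S.fromSpecStalk s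
  refine ⟨fun {Y} p' _ a b ha hb hab => ?_, fun {Y} p' _ h hh => ?_⟩
  · have ha' : (a ≫ pullback.fst N.hom j) ≫ N.hom = p' ≫ j := by
      rw [Category.assoc, pullback.condition, ← Category.assoc]
      exact congrArg (· ≫ j) ha
    have hb' : (b ≫ pullback.fst N.hom j) ≫ N.hom = p' ≫ j := by
      rw [Category.assoc, pullback.condition, ← Category.assoc]
      exact congrArg (· ≫ j) hb
    apply pullback.hom_ext
    · refine inj_local s U N.hom hN' p' _ _ ha' hb' ?_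
      rw [← Category.assoc, ← Category.assoc]
      exact congrArg (· ≫ pullback.fst N.hom j) hab
    · exact ha.trans hb.symm
  · obtain ⟨d, hd, hdh⟩ := surj_local (s := s) hN' p' (h ≫ pullback.fst N.hom j) (by
      rw [Category.assoc, pullback.condition, ← Category.assoc]
      exact (congrArg (· ≫ j) hh).trans (Category.assoc _ _ _))
    refine ⟨pullback.lift d p' hd, pullback.lift_snd _ _ _, ?_⟩
    apply pullback.hom_ext
    · rw [Category.assoc, pullback.lift_fst]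
      exact hdh
    · rw [Category.assoc, pullback.lift_snd]
      exact hh.symm

end Groth.Agent.NmpLocalize
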