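import Groth.Agent.GrpSchLib.FieldSmooth
import Mathlib

/-! # Smooth schemes over local schemes are localizations of smooth schemes -/

universe u

open CategoryTheory Limits AlgebraicGeometry TopologicalSpace

set_option backward.isDefEq.respectTransparency false
set_option backward.isDefEq.respectTransparency.types false

namespace Groth.Agent.NmpLocalize

theorem isIso_stalkMap_of_flat_preimmersion {X Y : Scheme.{u}} (f : X ⟶ Y) [Flat f]
    [IsPreimmersion f] (x : X) : IsIso (f.stalkMap x) := by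
  have hfl : (f.stalkMap x).hom.Flat := Flat.stalkMap f x
  refine (ConcreteCategory.isIso_iff_bijective _).2 ⟨?_, f.stalkMap_surjective x⟩
  algebraize [(f.stalkMap x).hom]
  have : IsLocalHom (algebraMap (Y.presheaf.stalk (f x)) (X.presheaf.stalk x)) :=
    inferInstanceAs <| IsLocalHom (f.stalkMap x).hom
  have : Module.FaithfullyFlat (Y.presheaf.stalk (f x)) (X.presheaf.stalk x) :=
    Module.FaithfullyFlat.of_flat_of_isLocalHom
  exact FaithfulSMul.algebraMap_injective (Y.presheaf.stalk (f x)) (X.presheaf.stalk x)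

/-- A finitely generated algebra over a localization is a localization of a finitely generated one. -/
theorem isLocalization_adjoin {A P B : Type*} [CommRing A] [CommRing P] [CommRing B] [Algebra A P]
    [Algebra P B] [Algebra A B] [IsScalarTower A P B] (M : Submonoid A) [IsLocalization M P]
    (G : Set B) (hG : Algebra.adjoin P G = ⊤) :
    IsLocalization (Algebra.algebraMapSubmonoid (Algebra.adjoin A G) M) B := by
  have hu : ∀ m : M, IsUnit (algebraMap A B m) := fun m => by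
    rw [IsScalarTower.algebraMap_apply A P B]
    exact (IsLocalization.map_units P m).map _
  have hden : ∀ b : B, ∃ m : M, algebraMap A B m * b ∈ Algebra.adjoin A G := by
    intro b
    have hb : b ∈ Algebra.adjoin P G := hG ▸ Algebra.mem_top
    induction hb using Algebra.adjoin_induction with
    | mem x hx => exact ⟨1, by rw [Submonoid.coe_one, map_one, one_mul]; exact Algebra.subset_adjoin hx⟩
    | algebraMap r =>
      obtain ⟨⟨a, m⟩, h⟩ := IsLocalization.surj M r
      refine ⟨m, ?_⟩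
      rw [IsScalarTower.algebraMap_apply A P B, ← map_mul, mul_comm, h, ← IsScalarTower.algebraMap_apply]
      exact Subalgebra.algebraMap_mem _ a
    | add x y _ _ hx hy =>
      obtain ⟨m, hm⟩ := hx
      obtain ⟨n, hn⟩ := hy
      refine ⟨m * n, ?_⟩
      have : algebraMap A B ↑(m * n) * (x + y) =
          algebraMap A B n * (algebraMap A B m * x) + algebraMap A B m * (algebraMap A B n * y) := by
        rw [Submonoid.coe_mul, map_mul]; ring
      rw [this]
      exact Subalgebra.add_mem _ (Subalgebra.mul_mem _ (Subalgebra.algebraMap_mem _ _) hm)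
        (Subalgebra.mul_mem _ (Subalgebra.algebraMap_mem _ _) hn)
    | mul x y _ _ hx hy =>
      obtain ⟨m, hm⟩ := hx
      obtain ⟨n, hn⟩ := hy
      refine ⟨m * n, ?_⟩
      have : algebraMap A B ↑(m * n) * (x * y) =
          (algebraMap A B m * x) * (algebraMap A B n * y) := by
        rw [Submonoid.coe_mul, map_mul]; ring
      rw [this]
      exact Subalgebra.mul_mem _ hm hn
  rw [isLocalization_iff]
  refine ⟨?_, ?_, ?_⟩
  · rintro ⟨_, m, hm, rfl⟩
    exact hu ⟨m, hm⟩
  · intro b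
    obtain ⟨m, hm⟩ := hden b
    exact ⟨⟨⟨_, hm⟩, ⟨algebraMap A _ m, m, m.2, rfl⟩⟩, mul_comm b (algebraMap A B m)⟩
  · intro x y h
    exact ⟨1, by rw [Subtype.ext h]⟩

theorem exists_chart {S : Scheme.{u}} [IsLocallyNoetherian S] (s : S) {Y : Scheme.{u}}
    (p' : Y ⟶ Spec (S.presheaf.stalk s)) [Smooth p'] (y : Y) :
    ∃ (W : Y.Opens) (_ : y ∈ W) (Y₁ : Scheme.{u}) (q : Y₁ ⟶ S) (π : W.toScheme ⟶ Y₁),
      IsAffine Y₁ ∧ Smooth q ∧ π ≫ q = W.ι ≫ p' ≫ S.fromSpecStalk s ∧
      ∀ w, IsIso (π.stalkMap w) := by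
  obtain ⟨_, ⟨(W₀ : Y.Opens), hW₀, rfl⟩, hyW₀, -⟩ :=
    Y.isBasis_affineOpens.exists_subset_of_mem_open (Set.mem_univ y) isOpen_univ
  obtain ⟨_, ⟨(V : S.Opens), hV, rfl⟩, hsV, -⟩ :=
    S.isBasis_affineOpens.exists_subset_of_mem_open (Set.mem_univ s) isOpen_univ
  haveI : IsAffine W₀.toScheme := hW₀
  haveI : IsNoetherianRing Γ(S, V) := IsLocallyNoetherian.component_noetherian ⟨V, hV⟩
  let B : CommRingCat.{u} := Γ(W₀.toScheme, ⊤)
  let ι₀ := W₀.toScheme.isoSpec
  let ψ : S.presheaf.stalk s ⟶ B := Spec.preimage (ι₀.inv ≫ W₀.ι ≫ p')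
  have hψ : Spec.map ψ = ι₀.inv ≫ W₀.ι ≫ p' := Spec.map_preimage _
  let germ : Γ(S, V) ⟶ S.presheaf.stalk s := S.presheaf.germ V s hsV
  letI : Algebra Γ(S, V) (S.presheaf.stalk s) := germ.hom.toAlgebra
  haveI := hV.isLocalization_stalk ⟨s, hsV⟩
  letI : Algebra (S.presheaf.stalk s) B := ψ.hom.toAlgebra
  letI : Algebra Γ(S, V) B := (ψ.hom.comp germ.hom).toAlgebra
  haveI : IsScalarTower Γ(S, V) (S.presheaf.stalk s) B := IsScalarTower.of_algebraMap_eq' rfl
  have hft : Algebra.FiniteType (S.presheaf.stalk s) B := by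
    have h1 : LocallyOfFiniteType (Spec.map ψ) := by rw [hψ]; infer_instance
    exact (HasRingHomProperty.Spec_iff (P := @LocallyOfFiniteType)).1 h1
  obtain ⟨G, hG⟩ := hft.out
  haveI hloc := isLocalization_adjoin (A := Γ(S, V)) (hV.primeIdealOf ⟨s, hsV⟩).asIdeal.primeCompl
    (G : Set B) hG
  let B₀ : Subalgebra Γ(S, V) B := Algebra.adjoin Γ(S, V) (G : Set B)
  haveI : Algebra.FiniteType Γ(S, V) B₀ := (Subalgebra.fg_iff_finiteType _).1 (Subalgebra.fg_adjoin_finset G)
  let φ : Γ(S, V) ⟶ CommRingCat.of B₀ := CommRingCat.ofHom (algebraMap Γ(S, V) B₀)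
  let g : Spec (CommRingCat.of B₀) ⟶ S := Spec.map φ ≫ hV.fromSpec
  haveI : LocallyOfFiniteType (Spec.map φ) :=
    (HasRingHomProperty.Spec_iff (P := @LocallyOfFiniteType)).2
      (RingHom.finiteType_algebraMap.2 inferInstance)
  haveI : LocallyOfFiniteType g := inferInstanceAs (LocallyOfFiniteType (Spec.map φ ≫ hV.fromSpec))
  haveI : LocallyOfFinitePresentation g := inferInstance
  let v : CommRingCat.of B₀ ⟶ B := CommRingCat.ofHom (algebraMap B₀ B)
  let π₀ : W₀.toScheme ⟶ Spec (CommRingCat.of B₀) := ι₀.hom ≫ Spec.map v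
  have hφv : φ ≫ v = germ ≫ ψ := rfl
  have hcomp : π₀ ≫ g = W₀.ι ≫ p' ≫ S.fromSpecStalk s := by
    rw [← hV.fromSpecStalk_eq_fromSpecStalk hsV]
    simp only [π₀, g, Category.assoc, ← Spec.map_comp_assoc, hφv, IsAffineOpen.fromSpecStalk]
    rw [Spec.map_comp_assoc, hψ]
    simp [germ]
  haveI : IsPreimmersion (Spec.map v) :=
    IsPreimmersion.of_isLocalization (S := B)
      (Algebra.algebraMapSubmonoid B₀ (hV.primeIdealOf ⟨s, hsV⟩).asIdeal.primeCompl)
  haveI : Flat (Spec.map v) :=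
    (HasRingHomProperty.Spec_iff (P := @Flat)).2 (RingHom.flat_algebraMap_iff.2
      (IsLocalization.flat B (Algebra.algebraMapSubmonoid B₀ (hV.primeIdealOf ⟨s, hsV⟩).asIdeal.primeCompl)))
  haveI : IsPreimmersion π₀ := inferInstanceAs (IsPreimmersion (ι₀.hom ≫ Spec.map v))
  haveI : Flat π₀ := inferInstanceAs (Flat (ι₀.hom ≫ Spec.map v))
  haveI := GrpSchLib.flat_fromSpecStalk s
  have hiso : ∀ w, IsIso (π₀.stalkMap w) := fun w => isIso_stalkMap_of_flat_preimmersion π₀ w
  have hsm : ∀ w, π₀ w ∈ g.smoothLocus := by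
    intro w
    haveI := hiso w
    have h1 : ((π₀ ≫ g).stalkMap w).hom.FormallySmooth := by
      have hp : p'.smoothLocus = ⊤ := p'.smoothLocus_eq_top
      have h2 : (p'.stalkMap (W₀.ι w)).hom.FormallySmooth := by
        rw [← Scheme.Hom.mem_smoothLocus, hp]; trivial
      haveI := isIso_stalkMap_of_flat_preimmersion (S.fromSpecStalk s) (p' (W₀.ι w))
      rw [Scheme.Hom.stalkMap_congr_hom _ _ hcomp, CommRingCat.hom_comp]
      have h3 : ((W₀.ι ≫ p' ≫ S.fromSpecStalk s).stalkMap w).hom.FormallySmooth := by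
        rw [Scheme.Hom.stalkMap_comp, CommRingCat.hom_comp,
          RingHom.FormallySmooth.respectsIso.cancel_right_isIso, Scheme.Hom.stalkMap_comp,
          CommRingCat.hom_comp, RingHom.FormallySmooth.respectsIso.cancel_left_isIso]
        exact h2
      exact (RingHom.FormallySmooth.respectsIso.cancel_left_isIso _ _).2 h3
    rw [Scheme.Hom.stalkMap_comp] at h1
    exact ((RingHom.FormallySmooth.respectsIso).cancel_right_isIso (g.stalkMap (π₀ w)) (π₀.stalkMap w)).1 h1
  obtain ⟨_, ⟨(V₁ : (Spec (CommRingCat.of B₀)).Opens), hV₁, rfl⟩, hyV₁, hV₁le⟩ :=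
    (Spec (CommRingCat.of B₀)).isBasis_affineOpens.exists_subset_of_mem_open
      (hsm ⟨y, hyW₀⟩) g.smoothLocus.isOpen
  let k := (π₀ ⁻¹ᵁ V₁).ι ≫ W₀.ι
  refine ⟨k.opensRange, ⟨⟨⟨y, hyW₀⟩, hyV₁⟩, rfl⟩, V₁.toScheme, V₁.ι ≫ g,
    k.isoOpensRange.inv ≫ π₀ ∣_ V₁, hV₁, ?_, ?_, ?_⟩
  · haveI : LocallyOfFinitePresentation (V₁.ι ≫ g) := inferInstance
    rw [← Scheme.Hom.smoothLocus_eq_top_iff, ← Scheme.Hom.preimage_smoothLocus_eq, eq_top_iff]
    exact fun t _ => hV₁le t.2
  · rw [Category.assoc, morphismRestrict_ι_assoc, hcomp, ← Scheme.Hom.isoOpensRange_inv_comp k]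
    simp only [k, Category.assoc]
  · intro w
    have h2 : ∀ w', IsIso ((π₀ ∣_ V₁).stalkMap w') := fun w' =>
      (MorphismProperty.isomorphisms _).arrow_mk_iso_iff (morphismRestrictStalkMap π₀ V₁ w') |>.2
        (hiso w'.1)
    rw [Scheme.Hom.stalkMap_comp]
    haveI := h2 (k.isoOpensRange.inv w)
    infer_instance

end Groth.Agent.NmpLocalize
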